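import Mathlib
import Cfsg.Agent.Lib.Helper22.Iso.Defs

/-!
# Project ISO (S3044 + S3045), package K2: consequences of the generation lemma
-/

set_option autoImplicit false

namespace Cfsg.Agent.Lib.Helper43.Iso

open Cfsg.Agent.Lib.Helper22.Iso

universe u

section

variable {G : Type u} [Group G]

/-- Dedekind: `L ⊓ (Y ⊔ S) ≤ (Y ⊓ L) ⊔ S` for `Y` normal and `S ≤ L`. -/
theorem k2_modular (Y L S : Subgroup G) [Y.Normal] (hSL : S ≤ L) :
    L ⊓ (Y ⊔ S) ≤ (Y ⊓ L) ⊔ S := by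
  intro x hx
  obtain ⟨hxL, hxYS⟩ := hx
  have h1 : x ∈ ((Y ⊔ S : Subgroup G) : Set G) := hxYS
  rw [Subgroup.normal_mul] at h1
  obtain ⟨y, hy, s, hs, rfl⟩ := Set.mem_mul.mp h1
  have hyL : y ∈ L := by
    have h2 : y = (y * s) * s⁻¹ := by group
    rw [h2]
    exact L.mul_mem hxL (L.inv_mem (hSL hs))
  exact Subgroup.mul_mem _ (Subgroup.mem_sup_left ⟨hy, hyL⟩) (Subgroup.mem_sup_right hs)

theorem k2_normalizer_inf (Y L S : Subgroup G) [hY : Y.Normal] (hSL : S ≤ L) :
    S ≤ Subgroup.normalizer ((Y ⊓ L : Subgroup G) : Set G) := by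
  intro s hs
  rw [Subgroup.mem_normalizer_iff]
  intro x
  constructor
  · rintro ⟨hxY, hxL⟩
    exact ⟨hY.conj_mem x hxY s, L.mul_mem (L.mul_mem (hSL hs) hxL) (L.inv_mem (hSL hs))⟩
  · rintro ⟨hxY, hxL⟩
    have e : x = s⁻¹ * (s * x * s⁻¹) * s⁻¹⁻¹ := by group
    rw [e]
    exact ⟨hY.conj_mem _ hxY s⁻¹,
      L.mul_mem (L.mul_mem (L.inv_mem (hSL hs)) hxL) (L.inv_mem (L.inv_mem (hSL hs)))⟩

end

/-- K2 (from GEN and RES). -/
theorem pkgK2 (hGen : PkgGen.{u}) (hRes : PkgRes.{u}) : PkgK2.{u} := by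
  intro G _ _ p _ S P L Y hs
  obtain ⟨hSP, hPmin, hL, hiso, hY⟩ := hs
  obtain ⟨hTP, hPT, hPTS, hW, hTS⟩ := hRes S P hSP
  have hNL : Subgroup.normalizer ((S : Subgroup G) : Set G) ≤ L := by
    rw [hL]; exact le_sup_left
  have hSL : (S : Subgroup G) ≤ L := Subgroup.le_normalizer.trans hNL
  have hTY : resid p P ≤ Y := by
    rw [hY]; exact Subgroup.le_normalClosure
  haveI hYn : Y.Normal := by
    rw [hY]; exact Subgroup.normalClosure_normal
  have hP'L : ∀ P' : Subgroup G, (S : Subgroup G) ≤ P' → Cfsg.IsPMinimal p ↥P' → P' ≠ P →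
      P' ≤ L := by
    intro P' h1 h2 h3
    rw [hL]
    exact le_trans (le_iSup_of_le (⟨P', h1, h2, h3⟩ : {P' : Subgroup G //
      (S : Subgroup G) ≤ P' ∧ Cfsg.IsPMinimal p ↥P' ∧ P' ≠ P}) le_rfl) le_sup_right
  refine ⟨?_, ?_, ?_⟩
  · rw [eq_top_iff]
    refine (hGen S ⊤ le_top).trans (sup_le ?_ (iSup_le ?_))
    · exact inf_le_left.trans (hNL.trans le_sup_right)
    · rintro ⟨P', h1, h2, h3⟩
      by_cases hP' : P' = P
      · subst hP'
        exact hPTS.trans (sup_le (hTY.trans le_sup_left) (hSL.trans le_sup_right))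
      · exact (hP'L P' h1 h3 hP').trans le_sup_right
  · intro W hSW hTW
    have hPW : ¬ P ≤ W ⊔ (S : Subgroup G) := fun h => hTW (hW W hSW h)
    refine le_sup_left.trans
      ((hGen S (W ⊔ (S : Subgroup G)) le_sup_right).trans (sup_le ?_ (iSup_le ?_)))
    · exact inf_le_left.trans hNL
    · rintro ⟨P', h1, h2, h3⟩
      apply hP'L P' h1 h3
      rintro rfl
      exact hPW h2
  · -- gen
    obtain ⟨A, hA⟩ : ∃ A : Subgroup G, A = (Y ⊓ L) ⊔ resid p P := ⟨_, rfl⟩
    rw [← hA]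
    have hAY : A ≤ Y := by
      rw [hA]; exact sup_le inf_le_left hTY
    have hSA : (S : Subgroup G) ≤ Subgroup.normalizer (A : Set G) := by
      have h1 : (S : Subgroup G) ≤ Subgroup.normalizer ((Y ⊓ L : Subgroup G) : Set G) ⊓
          Subgroup.normalizer ((resid p P : Subgroup G) : Set G) :=
        le_inf (k2_normalizer_inf Y L (S : Subgroup G) hSL) (hSP.trans hPT)
      rw [hA]
      exact h1.trans (Subgroup.normalizer_inf_normalizer_le_normalizer_sup _ _)
    have hmod : L ⊓ (Y ⊔ (S : Subgroup G)) ≤ A ⊔ (S : Subgroup G) := by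
      refine (k2_modular Y L (S : Subgroup G) hSL).trans (sup_le ?_ le_sup_right)
      rw [hA]
      exact le_sup_left.trans le_sup_left
    have hH : Y ⊔ (S : Subgroup G) ≤ A ⊔ (S : Subgroup G) := by
      refine (hGen S (Y ⊔ (S : Subgroup G)) le_sup_right).trans (sup_le ?_ (iSup_le ?_))
      · exact (inf_le_inf_right _ hNL).trans hmod
      · rintro ⟨P', h1, h2, h3⟩
        by_cases hP' : P' = P
        · subst hP'
          refine hPTS.trans (sup_le ?_ le_sup_right)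
          rw [hA]
          exact le_sup_right.trans le_sup_left
        · exact (le_inf (hP'L P' h1 h3 hP') h2).trans hmod
    intro y hy
    have h1 : y ∈ ((A ⊔ (S : Subgroup G) : Subgroup G) : Set G) := hH (Subgroup.mem_sup_left hy)
    rw [Subgroup.coe_mul_of_right_le_normalizer_left A (S : Subgroup G) hSA] at h1
    obtain ⟨a, ha, s, hs, rfl⟩ := Set.mem_mul.mp h1
    have hsY : s ∈ Y := by
      have e : s = a⁻¹ * (a * s) := by group
      rw [e]
      exact Y.mul_mem (Y.inv_mem (hAY ha)) hy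
    have hsA : s ∈ A := by
      rw [hA]
      exact Subgroup.mem_sup_left ⟨hsY, hSL hs⟩
    exact A.mul_mem ha hsA

end Cfsg.Agent.Lib.Helper43.Iso
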